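import Cfsg.Agent.Lib.ToddCox.Glue
set_option autoImplicit false
set_option maxRecDepth 100000
namespace Cfsg.Agent.Lib.ToddCox.L37C2
def E_0 : ℕ := 0x10000000400000400000010000031000000c00000c40000030000030000000c00000c0000003000001080000040000042000001000001fc00000800000bf0000010000030c00000c00000c3000003000006fc000004000007f000006000003fc000020000023f000003000005fc00000c00000ff0000050000030800000c00000c2000003000004fc000004000007f000004000008fc000014000017f000008000003fc00001c00001ff0000030000070000002000002000000070000060400002000002010000060000081000001c00001c40000080000051400001c00001c50000050000060000001000001000000060000070c00001400001430000070000070400001000001010000070000061000001800001840000060000021000000800000840000020000051000000c00000c40000050000050000000c00000c00000050000031400000c00000c50000030000020800000800000820000020000010c00000400000430000010000011000000400000440000010000001000000000000040000000000000c00000000000030000000000000800000000000020000000000000400000000000010000000000000000000000000000000000000030c00002000002030000030000030800001c00001c20000030000020c00001800001830000020000020400001400001410000020000010800001000001020000010000010400000c00000c1000001000001000000080000080000001000000140000040000045000000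
end Cfsg.Agent.Lib.ToddCox.L37C2
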