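import Cfsg.Agent.Lib.ToddCox.L37C2.Data
set_option autoImplicit false
set_option maxRecDepth 100000
namespace Cfsg.Agent.Lib.ToddCox.L37C2
theorem wordsGood : allBelow (wordsOK W (relR Rb inv) inv sp) nW 5 = true := by decide +kernel
theorem d0 : allBits (fun k => bif Nat.blt k 8 then chkDef Eo inv k else true) 13 0 = true := by decide +kernel
def L0 : List ℕ := [nat_lit 0x20000009400002c0000400000118000054000078000006000008000011000005e00003d000001800005000008600000e00000980000d4000084000004000007800010000007400001200001880000e000004000001100001c800003000002000002a00001c000001000001e00003600001c000008800001c00000f00001b00000b400004600000f00001b00000b400004600000f00001b00000b400004600000f00001b000003400006400003400001400000d400001800002900001780000a800006400000b0000070000090000058000006000012800008400004800002c000005000002800003e00000900001600000ac00001200000c000002000007000000a0000220000040000030000008000007000003800002800004c00000b0000030000024000046000024000004000001400001000000200000d000001400000a0000080000010000014000008000004000000000004c000002000005000001800000800000000001100000a8000044000002000003000001000006c000000000019000000800000400000000001700000c8000004000001fffffffffffffffffffffffffffffff]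
theorem s0 : chkChunks Eo inv W isH 32 L0 8 = true := by decide +kernel
theorem c0 : Covered Eo inv W isH 8 40 := covered_of_chunks 32 L0 8 40 rfl s0
theorem s1 : chkStream Eo inv W isH 1 40 0x124000004000015 = true := by decide +kernel
theorem c1 : Covered Eo inv W isH 40 41 := covered_of_stream 1 40 _ s1
theorem l0 : chkPoints Eo cF (2 * nEv) N ys 3 0 0x10800000800009e000002000023800000800007e000002000002800000400009a000002000000800000000003600000100000e800000400009600000100000200000080000a2000001000000000000400003000000000000b00000000000280000000000090000000000020000000 = true := by decide +kernel
theorem k0 : LinksOK Eo cF (2 * nEv) N ys 0 3 := linksOK_of_points 3 0 _ l0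
end Cfsg.Agent.Lib.ToddCox.L37C2
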